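import Mathlib

/-! helper7: a finite type algebra is unramified at a prime over a polynomial algebra in as many
variables as the dimension of the fibre of its differentials at that prime. -/

set_option linter.style.haveILetI false
set_option linter.unusedVariables false
set_option linter.unusedSectionVars false

universe u

namespace Groth.Agent.Helper7.UnrAt

open TensorProduct KaehlerDifferential

theorem span_one_tmul_D (A B : Type u) [CommRing A] [CommRing B] [Algebra A B]
    (K : Type u) [Field K] [Algebra B K] :
    Submodule.span K (Set.range fun b : B => (1 : K) ⊗ₜ[B] D A B b) = ⊤ := by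
  rw [eq_top_iff]
  rintro x -
  induction x using TensorProduct.induction_on with
  | zero => exact Submodule.zero_mem _
  | add x y hx hy => exact Submodule.add_mem _ hx hy
  | tmul k ω =>
    have hω : ω ∈ Submodule.span B (Set.range (D A B)) := by
      rw [KaehlerDifferential.span_range_derivation]; trivial
    have h1 : k ⊗ₜ[B] ω = k • ((1 : K) ⊗ₜ[B] ω) := by
      rw [TensorProduct.smul_tmul', smul_eq_mul, mul_one]
    rw [h1]
    refine Submodule.smul_mem _ _ ?_
    clear h1
    induction hω using Submodule.span_induction with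
    | mem y hy =>
      obtain ⟨b, rfl⟩ := hy
      exact Submodule.subset_span ⟨b, rfl⟩
    | zero => rw [TensorProduct.tmul_zero]; exact Submodule.zero_mem _
    | add y z _ _ hy hz => rw [TensorProduct.tmul_add]; exact Submodule.add_mem _ hy hz
    | smul c y _ hy =>
      have : (1 : K) ⊗ₜ[B] (c • y) = (algebraMap B K c) • ((1 : K) ⊗ₜ[B] y) := by
        rw [TensorProduct.tmul_smul, TensorProduct.smul_tmul', TensorProduct.smul_tmul',
          Algebra.smul_def, mul_one, smul_eq_mul, mul_one]
      rw [this]
      exact Submodule.smul_mem _ _ hy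

theorem main (A B : Type u) [CommRing A] [CommRing B] [Algebra A B] [Algebra.FiniteType A B]
    (q : Ideal B) [q.IsPrime] (r : ℕ)
    (hr : Module.finrank q.ResidueField (q.ResidueField ⊗[B] Ω[B⁄A]) = r) :
    ∃ φ : MvPolynomial (Fin r) A →ₐ[A] B,
      letI := φ.toRingHom.toAlgebra
      Algebra.IsUnramifiedAt (MvPolynomial (Fin r) A) q := by
  classical
  let K := q.ResidueField
  let s : Set (K ⊗[B] Ω[B⁄A]) := Set.range fun b : B => (1 : K) ⊗ₜ[B] D A B b
  have hs : Submodule.span K s = ⊤ := span_one_tmul_D A B K
  haveI : Module.Finite K (Submodule.span K s) := by rw [hs]; infer_instance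
  obtain ⟨f, hf, hspan, -⟩ := Submodule.exists_fun_fin_finrank_span_eq K s
  have hr' : Module.finrank K (Submodule.span K s) = r := by
    rw [hs, finrank_top]; exact hr
  have hb : ∀ i : Fin r, ∃ b : B, (1 : K) ⊗ₜ[B] D A B b = f (Fin.cast hr'.symm i) :=
    fun i => hf _
  choose b hb using hb
  let φ : MvPolynomial (Fin r) A →ₐ[A] B := MvPolynomial.aeval b
  refine ⟨φ, ?_⟩
  letI : Algebra (MvPolynomial (Fin r) A) B := φ.toRingHom.toAlgebra
  haveI : IsScalarTower A (MvPolynomial (Fin r) A) B :=
    IsScalarTower.of_algebraMap_eq (fun a => (φ.commutes a).symm)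
  haveI : Algebra.FiniteType (MvPolynomial (Fin r) A) B :=
    Algebra.FiniteType.of_restrictScalars_finiteType A _ B
  show (⟨q, inferInstance⟩ : PrimeSpectrum B) ∈ Algebra.unramifiedLocus (MvPolynomial (Fin r) A) B
  rw [Algebra.unramifiedLocus_eq_compl_support, Set.mem_compl_iff,
    Module.mem_support_iff_nontrivial_residueField_tensorProduct, not_nontrivial_iff_subsingleton]
  show Subsingleton (K ⊗[B] Ω[B⁄MvPolynomial (Fin r) A])
  let g : K ⊗[B] Ω[B⁄A] →ₗ[K] K ⊗[B] Ω[B⁄MvPolynomial (Fin r) A] :=
    (KaehlerDifferential.map A (MvPolynomial (Fin r) A) B B).baseChange K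
  have hgsurj : Function.Surjective g := by
    have h1 : Function.Surjective (KaehlerDifferential.map A (MvPolynomial (Fin r) A) B B) :=
      KaehlerDifferential.map_surjective A (MvPolynomial (Fin r) A) B
    exact LinearMap.lTensor_surjective K h1
  have hgf : ∀ i : Fin r, g ((1 : K) ⊗ₜ[B] D A B (b i)) = 0 := by
    intro i
    show (1 : K) ⊗ₜ[B] (KaehlerDifferential.map A (MvPolynomial (Fin r) A) B B (D A B (b i))) = 0
    rw [KaehlerDifferential.map_D]
    have : b i = algebraMap (MvPolynomial (Fin r) A) B (MvPolynomial.X i) := by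
      show b i = φ (MvPolynomial.X i)
      simp [φ]
    rw [Algebra.algebraMap_self, RingHom.id_apply, this, Derivation.map_algebraMap,
      TensorProduct.tmul_zero]
  have hg0 : g = 0 := by
    apply LinearMap.ext_on_range (v := f) ?_ ?_
    · rw [hspan, hs]
    · intro i
      have hi : f i = (1 : K) ⊗ₜ[B] D A B (b (Fin.cast hr' i)) := by
        rw [hb]; congr 1
      rw [hi, hgf, LinearMap.zero_apply]
  constructor
  intro x y
  obtain ⟨x', rfl⟩ := hgsurj x
  obtain ⟨y', rfl⟩ := hgsurj y
  rw [hg0]; rfl

end Groth.Agent.Helper7.UnrAt
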